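import Mathlib
import Cfsg.Agent.KFacts.MulDef
import Cfsg.Agent.Nodes.RGDLift
import Cfsg.Agent.KFacts.MulOdd.Shrink
import Cfsg.Agent.S0261
set_option linter.all false

-- part: KFacts/MulOdd/RankOne
section
/-!
# Double covers of groups with quaternion Sylow 2-subgroups

* `not_mem_commutator` : a central extension of a (generalised) quaternion group by `⟨c⟩` of order 2 splits off `c`
  (`c` is no product of commutators);
* `false_of_quaternion` : a finite group generated by `p`-elements, `p` odd, has no central involution `c` such that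
  the Sylow 2-subgroups of the quotient by `⟨c⟩` are quaternion.
-/

set_option autoImplicit false
set_option linter.style.haveILetI false

namespace Cfsg.Agent.KFacts.MulOdd.RankOne

open Subgroup
open scoped commutatorElement

/-! ### A group with an abelian subgroup of index two -/

section AbelTwo

variable {S : Type*} [Group S] {A : Subgroup S} {b : S}

/-- the commutators `[x, b]`, `x ∈ A` -/
def DD (hA : ∀ x ∈ A, ∀ y ∈ A, x * y = y * x) (hb : ∀ x ∈ A, b * x * b⁻¹ ∈ A) : Subgroup S where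
  carrier := {d | ∃ x ∈ A, d = x * (b * x⁻¹ * b⁻¹)}
  one_mem' := ⟨1, one_mem A, by group⟩
  mul_mem' := by
    rintro _ _ ⟨x, hx, rfl⟩ ⟨y, hy, rfl⟩
    refine ⟨x * y, mul_mem hx hy, ?_⟩
    have h1 : b * x⁻¹ * b⁻¹ * y = y * (b * x⁻¹ * b⁻¹) := hA _ (hb _ (inv_mem hx)) _ hy
    have h2 : b * x⁻¹ * b⁻¹ * (b * y⁻¹ * b⁻¹) = b * y⁻¹ * b⁻¹ * (b * x⁻¹ * b⁻¹) :=
      hA _ (hb _ (inv_mem hx)) _ (hb _ (inv_mem hy))
    calc x * (b * x⁻¹ * b⁻¹) * (y * (b * y⁻¹ * b⁻¹)) = x * ((b * x⁻¹ * b⁻¹ * y) * (b * y⁻¹ * b⁻¹)) := by group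
      _ = x * y * (b * x⁻¹ * b⁻¹ * (b * y⁻¹ * b⁻¹)) := by rw [h1]; group
      _ = x * y * (b * (x * y)⁻¹ * b⁻¹) := by rw [h2]; group
  inv_mem' := by
    rintro _ ⟨x, hx, rfl⟩
    refine ⟨x⁻¹, inv_mem hx, ?_⟩
    have h1 : b * x * b⁻¹ * x⁻¹ = x⁻¹ * (b * x * b⁻¹) := hA _ (hb _ hx) _ (inv_mem hx)
    calc (x * (b * x⁻¹ * b⁻¹))⁻¹ = b * x * b⁻¹ * x⁻¹ := by group
      _ = x⁻¹ * (b * x⁻¹⁻¹ * b⁻¹) := by rw [h1, inv_inv]

/-- The commutator subgroup of a group with an abelian subgroup of index 2. -/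
theorem commutator_le (hA : ∀ x ∈ A, ∀ y ∈ A, x * y = y * x) (hb : ∀ x ∈ A, b * x * b⁻¹ ∈ A)
    (hS : ∀ s : S, s ∈ A ∨ ∃ x ∈ A, s = x * b) : commutator S ≤ DD hA hb := by
  rw [commutator_eq_closure, closure_le]
  rintro _ ⟨s, t, rfl⟩
  rcases hS s with hs | ⟨x, hx, rfl⟩ <;> rcases hS t with ht | ⟨y, hy, rfl⟩
  · rw [commutatorElement_eq_one_iff_mul_comm.2 (hA _ hs _ ht)]
    exact one_mem _
  · refine ⟨s, hs, ?_⟩
    rw [commutatorElement_def]
    have h1 : b * s⁻¹ * b⁻¹ * y⁻¹ = y⁻¹ * (b * s⁻¹ * b⁻¹) := hA _ (hb _ (inv_mem hs)) _ (inv_mem hy)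
    calc s * (y * b) * s⁻¹ * (y * b)⁻¹ = s * y * (b * s⁻¹ * b⁻¹ * y⁻¹) := by group
      _ = s * (b * s⁻¹ * b⁻¹) := by rw [h1]; group
  · refine (DD hA hb).inv_mem_iff.1 ⟨t, ht, ?_⟩
    rw [commutatorElement_def]
    have h1 : b * t⁻¹ * b⁻¹ * x⁻¹ = x⁻¹ * (b * t⁻¹ * b⁻¹) := hA _ (hb _ (inv_mem ht)) _ (inv_mem hx)
    calc (x * b * t * (x * b)⁻¹ * t⁻¹)⁻¹ = t * x * (b * t⁻¹ * b⁻¹ * x⁻¹) := by group
      _ = t * (b * t⁻¹ * b⁻¹) := by rw [h1]; group
  · refine ⟨x * y⁻¹, mul_mem hx (inv_mem hy), ?_⟩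
    rw [commutatorElement_def]
    have h1 : b * (y * x⁻¹) * b⁻¹ * y⁻¹ = y⁻¹ * (b * (y * x⁻¹) * b⁻¹) :=
      hA _ (hb _ (mul_mem hy (inv_mem hx))) _ (inv_mem hy)
    calc x * b * (y * b) * (x * b)⁻¹ * (y * b)⁻¹ = x * (b * (y * x⁻¹) * b⁻¹ * y⁻¹) := by group
      _ = x * y⁻¹ * (b * (x * y⁻¹)⁻¹ * b⁻¹) := by rw [h1]; group

end AbelTwo

/-! ### Quaternion groups -/

open QuaternionGroup

/-- the cyclic subgroup of index 2 -/
def Cyc (n : ℕ) : Subgroup (QuaternionGroup n) where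
  carrier := {x | ∃ i, x = a i}
  one_mem' := ⟨0, rfl⟩
  mul_mem' := by
    rintro _ _ ⟨i, rfl⟩ ⟨j, rfl⟩
    exact ⟨i + j, a_mul_a i j⟩
  inv_mem' := by
    rintro _ ⟨i, rfl⟩
    exact ⟨-i, rfl⟩

theorem eq_zero_or {n : ℕ} [NeZero n] {i : ZMod (2 * n)} (hi : i + i = 0) : i = 0 ∨ i = n := by
  have hn : 0 < n := Nat.pos_of_ne_zero (NeZero.ne n)
  haveI : NeZero (2 * n) := ⟨by omega⟩
  have h1 : ((i.val + i.val : ℕ) : ZMod (2 * n)) = 0 := by
    rw [Nat.cast_add, ZMod.natCast_zmod_val, hi]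
  rw [ZMod.natCast_eq_zero_iff, ← two_mul] at h1
  have h2 : n ∣ i.val := Nat.dvd_of_mul_dvd_mul_left (by norm_num) h1
  have h3 : i.val < 2 * n := ZMod.val_lt i
  obtain ⟨k, hk⟩ := h2
  have h4 : k < 2 := by
    rw [hk] at h3
    by_contra h5
    push Not at h5
    nlinarith
  have h6 : i = ((i.val : ℕ) : ZMod (2 * n)) := (ZMod.natCast_zmod_val i).symm
  rw [h6, hk]
  interval_cases k
  · left; simp
  · right; simp

/-- **A central extension of a quaternion group by a group of order 2.** -/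
theorem not_mem_commutator {S : Type*} [Group S] {n : ℕ} [NeZero n] {f : S →* QuaternionGroup n}
    (hf : Function.Surjective f) {c : S} (hc : c ≠ 1) (hcen : ∀ x, c * x = x * c)
    (hker : ∀ x, f x = 1 ↔ x = 1 ∨ x = c) : c ∉ commutator S := by
  intro hmem
  have hcc : c * c = 1 := by
    have h1 : f (c * c) = 1 := by rw [map_mul, (hker c).2 (Or.inr rfl), one_mul]
    rcases (hker _).1 h1 with h2 | h2
    · exact h2
    · exact absurd (mul_left_cancel (h2.trans (mul_one c).symm)) hc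
  -- equality of images
  have heq : ∀ x y, f x = f y → x = y ∨ x = y * c := by
    intro x y hxy
    have h1 : f (y⁻¹ * x) = 1 := by rw [map_mul, map_inv, hxy, inv_mul_cancel]
    rcases (hker _).1 h1 with h2 | h2
    · left; exact (inv_mul_eq_one.1 h2).symm
    · right; rw [← h2]; group
  obtain ⟨u, hu⟩ := hf (a 1)
  obtain ⟨b, hb⟩ := hf (xa 0)
  -- the elements over the cyclic subgroup
  have hpow : ∀ x ∈ (Cyc n).comap f, ∃ k : ℕ, x = u ^ k ∨ x = u ^ k * c := by
    rintro x ⟨i, hi⟩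
    haveI : NeZero (2 * n) := ⟨by have := NeZero.ne n; omega⟩
    refine ⟨i.val, heq _ _ ?_⟩
    rw [hi, map_pow, hu, a_one_pow, ZMod.natCast_zmod_val]
  have hA : ∀ x ∈ (Cyc n).comap f, ∀ y ∈ (Cyc n).comap f, x * y = y * x := by
    intro x hx y hy
    obtain ⟨k, hk⟩ := hpow x hx
    obtain ⟨l, hl⟩ := hpow y hy
    have hcu : ∀ k : ℕ, Commute (u ^ k) c := fun k => (hcen (u ^ k)).symm
    have huu : Commute (u ^ k) (u ^ l) := (Commute.refl u).pow_pow k l
    rcases hk with rfl | rfl <;> rcases hl with rfl | rfl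
    · exact huu
    · exact huu.mul_right (hcu k)
    · exact huu.mul_left (hcu l).symm
    · exact (huu.mul_right (hcu k)).mul_left ((hcu l).symm.mul_right (Commute.refl c))
  have hbA : ∀ x ∈ (Cyc n).comap f, b * x * b⁻¹ ∈ (Cyc n).comap f := by
    rintro x ⟨i, hi⟩
    refine ⟨-i, ?_⟩
    show f (b * x * b⁻¹) = _
    rw [map_mul, map_mul, map_inv, hi, hb, mul_inv_eq_iff_eq_mul, xa_mul_a, a_mul_xa]
    simp
  have hS : ∀ s : S, s ∈ (Cyc n).comap f ∨ ∃ x ∈ (Cyc n).comap f, s = x * b := by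
    intro s
    rcases hfs : f s with i | i
    · left; exact ⟨i, hfs⟩
    · right
      refine ⟨s * b⁻¹, ⟨-i, ?_⟩, by group⟩
      show f (s * b⁻¹) = _
      rw [map_mul, map_inv, hfs, hb, mul_inv_eq_iff_eq_mul, a_mul_xa]
      simp
  obtain ⟨x, hx, hcx⟩ := commutator_le hA hbA hS hmem
  -- `x` commutes with `b`
  have hxb : x * b = b * x → False := by
    intro h1
    apply hc
    rw [hcx]
    calc x * (b * x⁻¹ * b⁻¹) = x * b * x⁻¹ * b⁻¹ := by group
      _ = 1 := by rw [h1]; group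
  apply hxb
  obtain ⟨i, hi⟩ := hx
  have h1 : f (x * (b * x⁻¹ * b⁻¹)) = 1 := by rw [← hcx]; exact (hker c).2 (Or.inr rfl)
  have h2 : f x * f b = f b * f x := by
    rw [map_mul, map_mul, map_mul, map_inv, map_inv] at h1
    calc f x * f b = (f x * (f b * (f x)⁻¹ * (f b)⁻¹)) * f b * f x := by group
      _ = f b * f x := by rw [h1, one_mul]
  have hi' : f x = a i := hi
  rw [hi', hb, a_mul_xa, xa_mul_a, zero_sub, zero_add, xa.injEq] at h2
  have h3 : i + i = 0 := by
    nth_rw 1 [← h2]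
    exact neg_add_cancel i
  rcases eq_zero_or h3 with rfl | rfl
  · have h4 : f x = 1 := hi
    rcases (hker x).1 h4 with rfl | rfl
    · rw [one_mul, mul_one]
    · exact hcen b
  · have h4 : f x = f (b * b) := by
      rw [hi', map_mul, hb, xa_mul_xa]
      simp
    rcases heq _ _ h4 with rfl | rfl
    · group
    · rw [mul_assoc, hcen b]
      group

/-! ### Transfer -/

theorem false_of_quaternion {H G : Type*} [Group H] [Finite H] [Group G] {f : H →* G}
    (hf : Function.Surjective f) {c : H} (hc : c ≠ 1) (hcen : ∀ x, c * x = x * c)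
    (hker : ∀ x, f x = 1 ↔ x = 1 ∨ x = c) {p : ℕ} (hp : p.Prime) (hp2 : p ≠ 2)
    (hgen : closure {x : H | ∃ k : ℕ, x ^ p ^ k = 1} = ⊤) {P : Subgroup G} (hP : ¬ 2 ∣ P.index) {k : ℕ}
    (e : P ≃* QuaternionGroup (2 ^ k)) : False := by
  have hcc : c * c = 1 := by
    have h1 : f (c * c) = 1 := by rw [map_mul, (hker c).2 (Or.inr rfl), one_mul]
    rcases (hker _).1 h1 with h2 | h2
    · exact h2
    · exact absurd (mul_left_cancel (h2.trans (mul_one c).symm)) hc
  set Q : Subgroup H := P.comap f with hQ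
  have hcQ : c ∈ Q := by
    show f c ∈ P
    rw [(hker c).2 (Or.inr rfl)]
    exact one_mem P
  have hidx : Q.index = P.index := P.index_comap_of_surjective hf
  -- `Q` is a 2-group
  have hP2 : IsPGroup 2 P := by
    haveI : NeZero (2 ^ k) := ⟨by positivity⟩
    refine IsPGroup.of_card (n := k + 2) ?_
    rw [Nat.card_congr e.toEquiv, Nat.card_eq_fintype_card, QuaternionGroup.card, pow_add]
    ring
  have hkp : IsPGroup 2 f.ker := by
    rintro ⟨x, hx⟩
    refine ⟨1, Subtype.ext ?_⟩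
    show x ^ 2 ^ 1 = 1
    rcases (hker x).1 hx with h1 | h1 <;> rw [h1, pow_one, pow_two]
    · exact one_mul 1
    · exact hcc
  have hQ2 : IsPGroup 2 Q := hP2.comap_of_ker_isPGroup f hkp
  -- the extension of the quaternion group
  haveI : NeZero (2 ^ k) := ⟨by positivity⟩
  let g : Q →* QuaternionGroup (2 ^ k) := e.toMonoidHom.comp (f.subgroupComap P)
  have hgs : Function.Surjective g := by
    intro y
    obtain ⟨x, hx⟩ := hf (e.symm y)
    refine ⟨⟨x, ?_⟩, ?_⟩
    · show f x ∈ P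
      rw [hx]; exact (e.symm y).2
    · show e _ = y
      have : (f.subgroupComap P) ⟨x, by show f x ∈ P; rw [hx]; exact (e.symm y).2⟩ = e.symm y := Subtype.ext hx
      rw [this, e.apply_symm_apply]
  have hgk : ∀ x : Q, g x = 1 ↔ x = 1 ∨ x = ⟨c, hcQ⟩ := by
    intro x
    have h1 : g x = 1 ↔ f x = 1 := by
      show e _ = 1 ↔ _
      rw [EmbeddingLike.map_eq_one_iff]
      exact Subtype.ext_iff
    rw [h1, hker, Subtype.ext_iff, Subtype.ext_iff]
    rfl
  have hnot := not_mem_commutator hgs (c := ⟨c, hcQ⟩) (fun h0 => hc (congrArg Subtype.val h0))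
    (fun x => Subtype.ext (hcen x)) hgk
  -- transfer
  let φ : Q →* Abelianization Q := Abelianization.of
  have h1 : ∀ (k : ℕ) (g₀ : H), g₀⁻¹ * c ^ k * g₀ ∈ Q → g₀⁻¹ * c ^ k * g₀ = c ^ k := by
    intro k g₀ _
    have h2 : Commute c g₀ := hcen g₀
    rw [mul_assoc, (h2.pow_left k).eq]; group
  have h3 := MonoidHom.transfer_eq_pow φ c h1
  have h4 : MonoidHom.transfer φ c = 1 := by
    have h5 : (MonoidHom.transfer φ).ker = ⊤ := by
      rw [eq_top_iff, ← hgen, closure_le]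
      rintro x ⟨j, hj⟩
      show MonoidHom.transfer φ x = 1
      set y := MonoidHom.transfer φ x with hy
      have h6 : y ^ p ^ j = 1 := by rw [hy, ← map_pow, hj, map_one]
      obtain ⟨y', hy'⟩ : ∃ y' : Q, Abelianization.of y' = y := QuotientGroup.mk_surjective y
      obtain ⟨l, hl⟩ := hQ2 y'
      have h7 : y ^ 2 ^ l = 1 := by rw [← hy', ← map_pow, hl, map_one]
      have hcop : Nat.Coprime (2 ^ l) (p ^ j) :=
        Nat.Coprime.pow _ _ ((Nat.coprime_primes Nat.prime_two hp).2 (Ne.symm hp2))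
      have h8 : orderOf y ∣ 1 := by
        rw [← hcop]
        exact Nat.dvd_gcd (orderOf_dvd_of_pow_eq_one h7) (orderOf_dvd_of_pow_eq_one h6)
      exact orderOf_eq_one_iff.1 (Nat.dvd_one.1 h8)
    have : c ∈ (MonoidHom.transfer φ).ker := by rw [h5]; exact mem_top _
    exact this
  have h5 : c ^ Q.index = c := by
    obtain ⟨k, hk⟩ := Nat.odd_iff.2 (Nat.two_dvd_ne_zero.1 (hidx ▸ hP))
    rw [hk, pow_succ, pow_mul, pow_two, hcc, one_pow, one_mul]
  have h6 : (⟨c ^ Q.index, MonoidHom.transfer_eq_pow_aux c h1⟩ : Q) = ⟨c, hcQ⟩ := Subtype.ext h5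
  rw [h4, h6] at h3
  exact hnot ((QuotientGroup.eq_one_iff (N := commutator Q) _).1 h3.symm)

end Cfsg.Agent.KFacts.MulOdd.RankOne
end

-- part: KFacts/MulOdd/Main
section
/-!
# No perfect double covers: groups with a root group datum in odd characteristic

`noDouble : Inst G → NoDouble G`: the root group datum lifts to the double cover `L`; `L` is generated by its root
groups, hence (`Shrink.torus_le`) its torus is the product of the tori of the rank one subgroups; these do not contain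
the central involution (`RankOne`), so that the order of the torus of `L` is at most the order of the torus of `G`.
-/

set_option autoImplicit false
set_option linter.style.haveILetI false

namespace Cfsg.Agent.KFacts.MulOdd.Main

open CoxeterSystem Cfsg.Agent.ChevalleyStructure.CoxeterGeom Cfsg.Agent.Tits.Roots
  Cfsg.Agent.Nodes.Reps Cfsg.Agent.Nodes.BNOf Cfsg.Agent.Nodes.RGDLib Cfsg.Agent.Nodes.RGDLift
  Cfsg.Agent.KFacts.MulDef Cfsg.Agent.KFacts.MulOdd.Inst Cfsg.Agent.KFacts.MulOdd.Shrink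
  Cfsg.Agent.KFacts.MulOdd.RankOne
open scoped commutatorElement Pointwise

/-! ### The order of a product of normal subgroups -/

theorem card_biSup_le {G ι : Type*} [Group G] [Finite G] (H : ι → Subgroup G) (hH : ∀ i, (H i).Normal)
    (s : Finset ι) : Nat.card ↥(⨆ i ∈ s, H i) ≤ ∏ i ∈ s, Nat.card (H i) := by
  classical
  induction s using Finset.induction_on with
  | empty => simp
  | insert a s ha ih =>
    rw [Finset.iSup_insert, Finset.prod_insert ha]
    have h1 : (⨆ i ∈ s, H i).Normal := Subgroup.biSup_normal (s : Set ι) H fun i _ => hH i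
    have h2 : ((H a ⊔ ⨆ i ∈ s, H i : Subgroup G) : Set G) = (H a : Set G) * ((⨆ i ∈ s, H i : Subgroup G) : Set G) :=
      Subgroup.mul_normal _ _
    calc Nat.card ↥(H a ⊔ ⨆ i ∈ s, H i) = Nat.card ((H a : Set G) * ((⨆ i ∈ s, H i : Subgroup G) : Set G) : Set G) := by
          rw [← h2]; rfl
      _ ≤ Nat.card (H a) * Nat.card ↥(⨆ i ∈ s, H i) := Set.natCard_mul_le
      _ ≤ _ := Nat.mul_le_mul_left _ ih

theorem card_iSup_le {G ι : Type*} [Group G] [Finite G] [Fintype ι] (H : ι → Subgroup G)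
    (hH : ∀ i, (H i).Normal) : Nat.card ↥(⨆ i, H i) ≤ ∏ i, Nat.card (H i) := by
  have h1 := card_biSup_le H hH Finset.univ
  have h2 : (⨆ i ∈ Finset.univ, H i) = ⨆ i, H i := by simp
  rwa [h2] at h1

/-- A subgroup which covers the central quotient of a perfect group is the whole group. -/
theorem eq_top_of_perfect {L : Type*} [Group L] {c : L} (hperf : commutator L = ⊤) (hcen : ∀ x, c * x = x * c)
    {K : Subgroup L} (hK : ∀ x : L, x ∈ K ∨ x * c ∈ K) : K = ⊤ := by
  rw [eq_top_iff, ← hperf, commutator_eq_closure, Subgroup.closure_le]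
  rintro _ ⟨s, t, rfl⟩
  have hc : ∀ s : L, ∃ s' ∈ K, s = s' ∨ s = s' * c⁻¹ := by
    intro s
    rcases hK s with h1 | h1
    · exact ⟨s, h1, Or.inl rfl⟩
    · exact ⟨s * c, h1, Or.inr (by group)⟩
  have hci : ∀ x, c⁻¹ * x = x * c⁻¹ := fun x => by
    have h1 : Commute c x := hcen x
    exact h1.inv_left
  obtain ⟨s', hs', hs⟩ := hc s
  obtain ⟨t', ht', ht⟩ := hc t
  have h1 : ⁅s, t⁆ = ⁅s', t'⁆ := by
    have e1 : ∀ x y : L, ⁅x * c⁻¹, y⁆ = ⁅x, y⁆ := by
      intro x y
      rw [commutatorElement_def, commutatorElement_def]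
      calc x * c⁻¹ * y * (x * c⁻¹)⁻¹ * y⁻¹ = x * (c⁻¹ * y) * c * x⁻¹ * y⁻¹ := by group
        _ = x * y * x⁻¹ * y⁻¹ := by rw [hci y]; group
    have e2 : ∀ x y : L, ⁅x, y * c⁻¹⁆ = ⁅x, y⁆ := by
      intro x y
      rw [← inv_inj, commutatorElement_inv, commutatorElement_inv, e1]
    rcases hs with rfl | rfl <;> rcases ht with rfl | rfl
    · rfl
    · exact e2 _ _
    · exact e1 _ _
    · rw [e1, e2]
  rw [h1, commutatorElement_def]
  exact mul_mem (mul_mem (mul_mem hs' ht') (inv_mem hs')) (inv_mem ht')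

/-! ### The main theorem -/

section

variable {I W G L : Type*} [Fintype I] [DecidableEq I] [Group W] [Finite W] [Group G] [Group L] [Finite L]
  {M : CoxeterMatrix I} {cs : CoxeterSystem M W} {A : I → I → ℤ} {h : IsCartan M A} {p : ℕ} {T : Subgroup G}
  {n : I → G} {X : (I → ℤ) → Subgroup G} {π : L →* G} {c : L}

omit [Finite L] in
theorem ker_le (hd : Dbl π c) : π.ker ≤ Subgroup.center L := by
  intro x hx
  rcases (hd.ker x).1 hx with rfl | rfl
  · exact one_mem _
  · exact Subgroup.mem_center_iff.2 fun y => (hd.cen y).symm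

omit [Finite L] in
theorem card_ker (hd : Dbl π c) : Nat.card π.ker = 2 := by
  classical
  have h1 : (π.ker : Set L) = {1, c} := by
    ext x
    exact hd.ker x
  calc Nat.card π.ker = Nat.card (({1, c} : Set L)) := by rw [← h1]; rfl
    _ = 2 := by
      rw [Nat.card_coe_set_eq, Set.ncard_pair hd.ne.symm]

/-- The rank one subgroups of the double cover do not contain the central involution. -/
theorem not_mem_Lv (hd : Dbl π c) (D : Datum cs h p T n X) (i : I) : c ∉ Lv (fun x => lft p π (X x)) i := by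
  intro hc
  haveI : Fact p.Prime := ⟨D.prime⟩
  have hf := ker_le hd
  have hp : (Nat.card π.ker).Coprime p := by
    rw [card_ker hd]
    exact (Nat.coprime_primes Nat.prime_two D.prime).2 (Ne.symm D.odd)
  have hP1 := D.pgrp i
  have hP2 := D.toRGD.pgrp' (isRoot_sr cs h i).neg
  set H : Subgroup L := Lv (fun x => lft p π (X x)) i with hH
  have hmap : H.map π = Lv X i := by
    rw [hH]
    unfold Lv
    rw [Subgroup.map_sup, map_lft hf hp hd.surj hP1, map_lft hf hp hd.surj hP2]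
  obtain ⟨F, _, _, φ, hF, hφ, hr⟩ := D.slt i
  haveI : Fintype F := Fintype.ofFinite F
  rw [Nat.card_eq_fintype_card] at hF
  haveI : Fact (Nat.Prime 2) := ⟨Nat.prime_two⟩
  let P0 : Sylow 2 (Matrix.SpecialLinearGroup (Fin 2) F) := default
  obtain ⟨k, -, ⟨e⟩⟩ := Cfsg.Agent.S0261.result hF P0
  have hmem : ∀ x : H, π x ∈ φ.range := by
    intro x
    rw [hr, ← hmap]
    exact Subgroup.mem_map_of_mem π x.2
  let f : H →* Matrix.SpecialLinearGroup (Fin 2) F :=
    (MonoidHom.ofInjective hφ).symm.toMonoidHom.comp ((π.comp H.subtype).codRestrict φ.range hmem)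
  have hfφ : ∀ x : H, φ (f x) = π x := by
    intro x
    exact MonoidHom.apply_ofInjective_symm hφ ⟨π x, hmem x⟩
  have hfs : Function.Surjective f := by
    intro y
    have h1 : φ y ∈ H.map π := by rw [hmap, ← hr]; exact ⟨y, rfl⟩
    obtain ⟨x, hx, hxy⟩ := h1
    exact ⟨⟨x, hx⟩, hφ ((hfφ ⟨x, hx⟩).trans hxy)⟩
  have hfk : ∀ x : H, f x = 1 ↔ x = 1 ∨ x = ⟨c, hc⟩ := by
    intro x
    rw [← hφ.eq_iff, hfφ, map_one, hd.ker, Subtype.ext_iff, Subtype.ext_iff]
    rfl
  have hgen : Subgroup.closure {x : H | ∃ k : ℕ, x ^ p ^ k = 1} = ⊤ := by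
    set K := Subgroup.closure {x : H | ∃ k : ℕ, x ^ p ^ k = 1} with hK
    have h1 : ∀ P : Subgroup G, lft p π P ≤ H → lft p π P ≤ K.map H.subtype := by
      intro P hP
      conv_lhs => unfold lft
      rw [Subgroup.closure_le]
      rintro y ⟨hy, k, hk⟩
      have hyH : y ∈ H := hP (Subgroup.subset_closure ⟨hy, k, hk⟩)
      exact ⟨⟨y, hyH⟩, Subgroup.subset_closure ⟨k, Subtype.ext hk⟩, rfl⟩
    have h2 : H ≤ K.map H.subtype := sup_le (h1 _ le_sup_left) (h1 _ le_sup_right)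
    rw [eq_top_iff]
    intro x _
    obtain ⟨z, hz, hzx⟩ := h2 x.2
    have : z = x := Subtype.ext hzx
    rwa [← this]
  exact false_of_quaternion hfs (c := (⟨c, hc⟩ : H)) (fun h0 => hd.ne (congrArg Subtype.val h0))
    (fun x => Subtype.ext (hd.cen x)) hfk D.prime D.odd hgen P0.not_dvd_index e

theorem false_of_dbl (hd : Dbl π c) (D : Datum cs h p T n X) : False := by
  haveI : Fact p.Prime := ⟨D.prime⟩
  have hf := ker_le hd
  have hp : (Nat.card π.ker).Coprime p := by
    rw [card_ker hd]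
    exact (Nat.coprime_primes Nat.prime_two D.prime).2 (Ne.symm D.odd)
  obtain ⟨g, hg⟩ := hd.surj.hasRightInverse
  have R := rgd_lift hf hp hd.surj D.toRGD (n := fun i => g (n i)) (fun i => hg (n i))
  set T' : Subgroup L := T.comap π with hT'
  set X' : (I → ℤ) → Subgroup L := fun x => lft p π (X x) with hX'
  -- generation
  have hmapG : (G1 cs h X').map π = ⊤ := by
    rw [← D.gen]
    unfold G1 RGD.Sup
    rw [Subgroup.map_iSup]
    exact iSup_congr fun z => map_lft hf hp hd.surj (D.toRGD.pgrp' z.2)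
  have hG1 : G1 cs h X' = ⊤ := by
    refine eq_top_of_perfect hd.perf hd.cen fun x => ?_
    have h1 : π x ∈ (G1 cs h X').map π := by rw [hmapG]; trivial
    obtain ⟨y, hy, hyx⟩ := h1
    have h2 : π (y⁻¹ * x) = 1 := by rw [map_mul, map_inv, hyx, inv_mul_cancel]
    rcases (hd.ker _).1 h2 with h3 | h3
    · left; rwa [← inv_mul_eq_one.1 h3]
    · right
      have h4 : x * c = y := by
        rw [inv_mul_eq_iff_eq_mul.1 h3, mul_assoc, hd.sq, mul_one]
      rwa [h4]
  have hle := torus_le R hG1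
  -- the orders
  have hcard1 : Nat.card T' ≤ ∏ i, Nat.card (Hv T' X' i) := by
    have h1 : ∀ i, ((Hv T' X' i).subgroupOf T').Normal := by
      intro i
      refine ⟨fun x hx t => ?_⟩
      rw [Subgroup.mem_subgroupOf] at hx ⊢
      refine Subgroup.mem_inf.2 ⟨(t * x * t⁻¹).2, ?_⟩
      have h2 := cj_t_Lv R t.2 i
      have h3 : ((t * x * t⁻¹ : T') : L) ∈ cj (t : L) (Lv X' i) := conj_mem_cj.2 (Subgroup.mem_inf.1 hx).2
      rwa [h2] at h3
    have h2 : (⨆ i, (Hv T' X' i).subgroupOf T') = ⊤ := by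
      rw [← iSup_subgroupOf (Hv T' X') (fun i => inf_le_left), Subgroup.subgroupOf_eq_top]
      exact hle
    have h3 := card_iSup_le _ h1
    rw [h2, Subgroup.card_top] at h3
    refine h3.trans (le_of_eq (Finset.prod_congr rfl fun i _ => ?_))
    exact Nat.card_congr (Subgroup.subgroupOfEquivOfLe (inf_le_left)).toEquiv
  have hcard2 : ∀ i, Nat.card (Hv T' X' i) ≤ Nat.card ↥(T ⊓ Lv X i) := by
    intro i
    have hmem : ∀ x : Hv T' X' i, π x ∈ T ⊓ Lv X i := by
      intro x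
      refine Subgroup.mem_inf.2 ⟨(Subgroup.mem_inf.1 x.2).1, ?_⟩
      have h1 : (Lv X' i).map π = Lv X i := by
        unfold Lv
        rw [Subgroup.map_sup, map_lft hf hp hd.surj (D.pgrp i),
          map_lft hf hp hd.surj (D.toRGD.pgrp' (isRoot_sr cs h i).neg)]
      rw [← h1]
      exact Subgroup.mem_map_of_mem π (Subgroup.mem_inf.1 x.2).2
    haveI : Finite G := Finite.of_surjective π hd.surj
    refine Nat.card_le_card_of_injective (fun x : Hv T' X' i => (⟨π x, hmem x⟩ : ↥(T ⊓ Lv X i))) ?_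
    intro x y hxy
    have h1 : π x = π y := congrArg Subtype.val hxy
    have h2 : π ((x : L)⁻¹ * y) = 1 := by rw [map_mul, map_inv, h1, inv_mul_cancel]
    rcases (hd.ker _).1 h2 with h3 | h3
    · exact Subtype.ext (inv_mul_eq_one.1 h3)
    · exfalso
      apply not_mem_Lv hd D i
      rw [← h3]
      exact mul_mem (inv_mem (Subgroup.mem_inf.1 x.2).2) (Subgroup.mem_inf.1 y.2).2
  have hcard3 : Nat.card T' ≤ Nat.card T :=
    hcard1.trans ((Finset.prod_le_prod' fun i _ => hcard2 i).trans D.card_le)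
  let ρ : T' → T := fun x => ⟨π x, x.2⟩
  have hρ : Function.Surjective ρ := by
    rintro ⟨t, ht⟩
    refine ⟨⟨g t, ?_⟩, Subtype.ext (hg t)⟩
    show π (g t) ∈ T
    rw [hg t]; exact ht
  have hinj := (hρ.bijective_of_nat_card_le hcard3).injective
  have hcT : c ∈ T' := by
    show π c ∈ T
    rw [(hd.ker c).2 (Or.inr rfl)]
    exact one_mem T
  have h1 : (⟨c, hcT⟩ : T') = 1 := by
    apply hinj
    apply Subtype.ext
    show π c = π 1
    rw [(hd.ker c).2 (Or.inr rfl), map_one]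
  exact hd.ne (congrArg Subtype.val h1)

end

/-- **No perfect double covers.** -/
theorem noDouble {G : Type*} [Group G] (hG : Inst G) : NoDouble G := by
  obtain ⟨I, W, _, _, _, _, M, cs, A, h, p, T, n, X, D⟩ := hG
  intro L _ _ π c hd
  exact false_of_dbl hd D

end Cfsg.Agent.KFacts.MulOdd.Main
end
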