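import Mathlib
import Cfsg.Agent.Nodes.RGDTypeA
import Cfsg.Agent.KFacts.MulOdd.Main
set_option linter.all false

/-!
# `SL(n, q)`, `q` odd, has no perfect double cover

* `blk a b` : the embedding of `SL(2, F)` in `SL(ι, F)` in the coordinates `a`, `b`;
* `datum` : `MulOdd.Inst.Datum` for `SL_{n+1}(F)`;
* `noDouble_SL` : `SL_n(F)`, `|F|` odd, has no perfect double cover;
* `noDouble_PSL` : neither has `PSL_n(F)` if `n` and `|F| - 1` are coprime.
-/

set_option autoImplicit false
set_option linter.unusedSectionVars false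
set_option linter.style.haveILetI false
set_option linter.unusedSimpArgs false

namespace Cfsg.Agent.KFacts.MulOdd.TypeA

open Matrix CoxeterSystem Cfsg.Agent.ChevalleyStructure.CoxeterGeom Cfsg.Agent.Tits.Roots
open Cfsg.Agent.Nodes.Reps Cfsg.Agent.Nodes.BNOf Cfsg.Agent.Nodes.RGDLib Cfsg.Agent.Nodes.RootsA
open Cfsg.Agent.Nodes.RGDTypeA
open Cfsg.Agent.LieRecognition.BNCox (cA)
open Cfsg.Agent.LieClassical.SLGen
open Cfsg.Agent.TitsThree.KSideA (tv tv_of_ne tv_add tv_zero tv_neg tv_comm tv_commute diag2n_eq)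
open Cfsg.Agent.KFacts.MulDef Cfsg.Agent.KFacts.MulOdd.Inst

section Blk

variable {ι F : Type*} [Field F] [DecidableEq ι] [Fintype ι] {a b : ι}

/-- the matrix with the block `g` in the rows and columns `a`, `b` -/
def NN (a b : ι) (g : Matrix (Fin 2) (Fin 2) F) : Matrix ι ι F := fun u v =>
  if u = a then (if v = a then g 0 0 else if v = b then g 0 1 else 0)
  else if u = b then (if v = a then g 1 0 else if v = b then g 1 1 else 0)
  else if u = v then 1 else 0

theorem NN_one (hab : a ≠ b) : NN a b (1 : Matrix (Fin 2) (Fin 2) F) = 1 := by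
  ext u v
  unfold NN
  by_cases hu : u = a
  · subst hu
    by_cases hv : v = u
    · subst hv; simp
    · by_cases hv' : v = b
      · subst hv'; simp [hab, hab.symm]
      · simp [hv, hv', Matrix.one_apply, Ne.symm hv]
  · by_cases hu' : u = b
    · subst hu'
      by_cases hv : v = a
      · subst hv; simp [hab.symm]
      · by_cases hv' : v = u
        · subst hv'; simp [hab.symm]
        · simp [hv, hv', hab.symm, Matrix.one_apply, Ne.symm hv']
    · simp [hu, hu', Matrix.one_apply]

theorem NN_mul (hab : a ≠ b) (g k : Matrix (Fin 2) (Fin 2) F) : NN a b (g * k) = NN a b g * NN a b k := by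
  ext u v
  rw [Matrix.mul_apply]
  by_cases hu : u = a
  · subst hu
    rw [Fintype.sum_eq_add u b hab (fun w hw => by simp [NN, hw.1, hw.2])]
    by_cases hv : v = u
    · subst hv; simp [NN, hab.symm, Matrix.mul_apply, Fin.sum_univ_two]
    · by_cases hv' : v = b
      · subst hv'; simp [NN, hab.symm, Matrix.mul_apply, Fin.sum_univ_two]
      · simp [NN, hab.symm, hv, hv']
  · by_cases hu' : u = b
    · subst hu'
      rw [Fintype.sum_eq_add a u hab (fun w hw => by simp [NN, hu, hw.1, hw.2])]
      by_cases hv : v = a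
      · subst hv; simp [NN, hab.symm, Matrix.mul_apply, Fin.sum_univ_two]
      · by_cases hv' : v = u
        · subst hv'; simp [NN, hab.symm, Matrix.mul_apply, Fin.sum_univ_two]
        · simp [NN, hab.symm, hv, hv']
    · rw [Fintype.sum_eq_single u (fun w hw => by simp [NN, hu, hu', Ne.symm hw])]
      simp [NN, hu, hu']

theorem NN_tv (hab : a ≠ b) (t : F) : NN a b (tv (0 : Fin 2) 1 t).1 = (tv a b t).1 := by
  rw [tv_val (by decide), tv_val hab]
  ext u v
  unfold NN
  by_cases hu : u = a
  · subst hu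
    by_cases hv : v = u
    · subst hv; simp [hab.symm]
    · by_cases hv' : v = b
      · subst hv'; simp [hab, hab.symm]
      · simp [hv, hv', Matrix.one_apply, Ne.symm hv, Matrix.single_apply, Ne.symm hv']
  · by_cases hu' : u = b
    · subst hu'
      by_cases hv : v = a
      · subst hv; simp [hab.symm, hab, Matrix.single_apply]
      · by_cases hv' : v = u
        · subst hv'; simp [hab.symm, hab, Matrix.single_apply]
        · simp [hv, hv', hab.symm, Matrix.one_apply, Ne.symm hv', Matrix.single_apply, hab]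
    · simp [hu, hu', Matrix.one_apply, Matrix.single_apply, Ne.symm hu]

theorem NN_tv' (hab : a ≠ b) (t : F) : NN a b (tv (1 : Fin 2) 0 t).1 = (tv b a t).1 := by
  rw [tv_val (by decide), tv_val hab.symm]
  ext u v
  unfold NN
  by_cases hu : u = a
  · subst hu
    by_cases hv : v = u
    · subst hv; simp [hab.symm, Matrix.single_apply]
    · by_cases hv' : v = b
      · subst hv'; simp [hab, hab.symm, Matrix.single_apply]
      · simp [hv, hv', Matrix.one_apply, Ne.symm hv, Matrix.single_apply, hab.symm]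
  · by_cases hu' : u = b
    · subst hu'
      by_cases hv : v = a
      · subst hv; simp [hab.symm, Matrix.single_apply]
      · by_cases hv' : v = u
        · subst hv'; simp [hab.symm, hab, Matrix.single_apply]
        · simp [hv, hv', hab.symm, Matrix.one_apply, Ne.symm hv', Matrix.single_apply, Ne.symm hv]
    · simp [hu, hu', Matrix.one_apply, Matrix.single_apply, Ne.symm hu']

theorem det_NN (hab : a ≠ b) (g : SpecialLinearGroup (Fin 2) F) : (NN a b g.1).det = 1 := by
  refine transvection_induction (fun g => (NN a b g.1).det = 1) ?_ ?_ g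
  · intro i j hij c
    rw [← tv_of_ne hij]
    fin_cases i <;> fin_cases j
    · exact absurd rfl hij
    · show (NN a b (tv (0 : Fin 2) 1 c).1).det = 1
      rw [NN_tv hab]; exact (tv a b c).2
    · show (NN a b (tv (1 : Fin 2) 0 c).1).det = 1
      rw [NN_tv' hab]; exact (tv b a c).2
    · exact absurd rfl hij
  · intro x y hx hy
    show (NN a b (x.1 * y.1)).det = 1
    rw [NN_mul hab, det_mul, hx, hy, one_mul]

/-- **The embedding of `SL(2, F)` in the coordinates `a`, `b`.** -/
def blk (hab : a ≠ b) : SpecialLinearGroup (Fin 2) F →* SpecialLinearGroup ι F where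
  toFun g := ⟨NN a b g.1, det_NN hab g⟩
  map_one' := Subtype.ext (NN_one hab)
  map_mul' x y := Subtype.ext (NN_mul hab x.1 y.1)

theorem blk_tv (hab : a ≠ b) (t : F) : blk hab (tv (0 : Fin 2) 1 t) = tv a b t := Subtype.ext (NN_tv hab t)

theorem blk_tv' (hab : a ≠ b) (t : F) : blk hab (tv (1 : Fin 2) 0 t) = tv b a t := Subtype.ext (NN_tv' hab t)

theorem blk_injective (hab : a ≠ b) : Function.Injective (blk (F := F) hab) := by
  intro x y hxy
  have h1 : NN a b x.1 = NN a b y.1 := congrArg Subtype.val hxy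
  apply Subtype.ext
  ext i j
  fin_cases i <;> fin_cases j
  · have := congrFun (congrFun h1 a) a
    simpa [NN] using this
  · have := congrFun (congrFun h1 a) b
    simpa [NN, hab.symm] using this
  · have := congrFun (congrFun h1 b) a
    simpa [NN, hab.symm] using this
  · have := congrFun (congrFun h1 b) b
    simpa [NN, hab.symm] using this

theorem blk_range (hab : a ≠ b) : (blk (F := F) hab).range = XX F a b ⊔ XX F b a := by
  apply le_antisymm
  · rw [MonoidHom.range_eq_map, ← closure_transvections (ι := Fin 2) (F := F), MonoidHom.map_closure,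
      Subgroup.closure_le]
    rintro _ ⟨_, ⟨i, j, hij, c, rfl⟩, rfl⟩
    rw [← tv_of_ne hij]
    fin_cases i <;> fin_cases j
    · exact absurd rfl hij
    · show blk hab (tv (0 : Fin 2) 1 c) ∈ _
      rw [blk_tv]
      exact (le_sup_left : XX F a b ≤ _) (tv_mem_XX _ _ _)
    · show blk hab (tv (1 : Fin 2) 0 c) ∈ _
      rw [blk_tv']
      exact (le_sup_right : XX F b a ≤ _) (tv_mem_XX _ _ _)
    · exact absurd rfl hij
  · refine sup_le ?_ ?_
    · rintro _ ⟨t, rfl⟩
      exact ⟨_, blk_tv hab t⟩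
    · rintro _ ⟨t, rfl⟩
      exact ⟨_, blk_tv' hab t⟩

/-! ### The order of the torus -/

theorem apply_of_mem_T {g : SpecialLinearGroup ι F} (hg : g ∈ T ι F) {u v : ι} (huv : u ≠ v) : g.1 u v = 0 := by
  by_contra h0
  exact huv (mem_T.1 hg u v h0)

theorem eq_diagonal {g : SpecialLinearGroup ι F} (hg : g ∈ T ι F) : g.1 = Matrix.diagonal fun u => g.1 u u := by
  ext u v
  by_cases huv : u = v
  · subst huv; simp
  · rw [apply_of_mem_T hg huv, Matrix.diagonal_apply_ne _ huv]

theorem prod_eq_one {g : SpecialLinearGroup ι F} (hg : g ∈ T ι F) : ∏ u, g.1 u u = 1 := by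
  rw [← Matrix.det_diagonal, ← eq_diagonal hg]
  exact g.2

theorem card_T_inf (hab : a ≠ b) [Finite F] :
    Nat.card ↥(T ι F ⊓ (XX F a b ⊔ XX F b a)) ≤ Nat.card Fˣ := by
  classical
  have hT : ∀ x : ↥(T ι F ⊓ (XX F a b ⊔ XX F b a)), x.1 ∈ T ι F := fun x => (Subgroup.mem_inf.1 x.2).1
  have hne : ∀ x : ↥(T ι F ⊓ (XX F a b ⊔ XX F b a)), ∀ u, x.1.1 u u ≠ 0 := by
    intro x u
    exact Mono.apply_ne_zero (mem_T.1 (hT x)) u
  have hout : ∀ x : ↥(T ι F ⊓ (XX F a b ⊔ XX F b a)), ∀ u, u ≠ a → u ≠ b → x.1.1 u u = 1 := by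
    rintro ⟨x, hx⟩ u hua hub
    have h1 := (Subgroup.mem_inf.1 hx).2
    rw [← blk_range hab] at h1
    obtain ⟨y, rfl⟩ := h1
    show NN a b y.1 u u = 1
    simp [NN, hua, hub]
  refine Nat.card_le_card_of_injective
    (fun x : ↥(T ι F ⊓ (XX F a b ⊔ XX F b a)) => Units.mk0 (x.1.1 a a) (hne x a)) ?_
  intro x y hxy
  have h1 : x.1.1 a a = y.1.1 a a := by simpa using congrArg Units.val hxy
  have hp : ∀ x : ↥(T ι F ⊓ (XX F a b ⊔ XX F b a)), x.1.1 a a * x.1.1 b b = 1 := by
    intro x
    have h2 := prod_eq_one (hT x)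
    rw [Fintype.prod_eq_mul a b hab (fun u hu => hout x u hu.1 hu.2)] at h2
    exact h2
  apply Subtype.ext
  apply Subtype.ext
  rw [eq_diagonal (hT x), eq_diagonal (hT y)]
  congr 1
  funext u
  by_cases hua : u = a
  · subst hua; exact h1
  · by_cases hub : u = b
    · subst hub
      have h2 := hp x
      rw [h1] at h2
      exact mul_left_cancel₀ (hne y a) (h2.trans (hp y).symm)
    · rw [hout x u hua hub, hout y u hua hub]

theorem card_T_ge (n : ℕ) [Finite F] : Nat.card Fˣ ^ n ≤ Nat.card (T (Fin (n + 1)) F) := by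
  classical
  haveI := Fintype.ofFinite F
  let d : (Fin n → Fˣ) → Fin (n + 1) → F := fun t =>
    Fin.snoc (fun i => (t i : F)) (((∏ i, t i)⁻¹ : Fˣ) : F)
  have hd : ∀ t, (Matrix.diagonal (d t)).det = 1 := by
    intro t
    rw [Matrix.det_diagonal, Fin.prod_univ_castSucc]
    simp only [d, Fin.snoc_castSucc, Fin.snoc_last]
    rw [← Units.coe_prod, ← Units.val_mul, mul_inv_cancel, Units.val_one]
  have h1 : Nat.card Fˣ ^ n = Nat.card (Fin n → Fˣ) := by
    rw [Nat.card_fun]; simp
  rw [h1]
  refine Nat.card_le_card_of_injective (fun t => (⟨⟨Matrix.diagonal (d t), hd t⟩, ?_⟩ : T (Fin (n + 1)) F)) ?_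
  · intro u v h0
    by_contra huv
    exact h0 (Matrix.diagonal_apply_ne _ huv)
  · intro s t hst
    have h2 : Matrix.diagonal (d s) = Matrix.diagonal (d t) := congrArg (fun x => x.1.1) hst
    have h3 := Matrix.diagonal_injective h2
    funext i
    have h4 := congrFun h3 i.castSucc
    simp only [d, Fin.snoc_castSucc] at h4
    exact Units.ext h4

end Blk

/-! ### The datum -/

variable {n : ℕ} {F : Type} [Field F] [Finite F]

theorem datum {W : Type*} [Group W] (cs : CoxeterSystem (cA n) W) {A : Fin n → Fin n → ℤ} (h : IsCartan (cA n) A)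
    {p : ℕ} [Fact p.Prime] [CharP F p] (hp : p ≠ 2) : Datum cs h p (T (Fin (n + 1)) F) (ns n F) (X F) where
  toRGD := rgd cs h
  gen := G1_eq_top cs h
  prime := Fact.out
  odd := hp
  card_le := by
    have h1 : ∀ i : Fin n, Nat.card ↥(T (Fin (n + 1)) F ⊓ Lv (X F) i) ≤ Nat.card Fˣ := by
      intro i
      unfold Lv
      rw [X_sr, X_neg_sr]
      exact card_T_inf (Fin.castSucc_lt_succ).ne
    refine (Finset.prod_le_prod' fun i _ => h1 i).trans ?_
    rw [Finset.prod_const, Finset.card_univ, Fintype.card_fin]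
    exact card_T_ge n
  slt i := by
    refine ⟨F, _, ‹_›, blk (a := i.castSucc) (b := i.succ) (Fin.castSucc_lt_succ).ne, ?_, blk_injective _, ?_⟩
    · haveI := Fintype.ofFinite F
      obtain ⟨k, -, hk⟩ := FiniteField.card F p
      rw [Nat.card_eq_fintype_card, hk]
      exact ((Fact.out : p.Prime).odd_of_ne_two hp).pow
    · unfold Lv
      rw [X_sr, X_neg_sr, blk_range]

theorem inst (hF : Odd (Nat.card F)) : Inst (SpecialLinearGroup (Fin (n + 1)) F) := by
  haveI := Fintype.ofFinite F
  obtain ⟨p, hchar⟩ := CharP.exists F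
  have hpp : p.Prime := (CharP.char_is_prime_or_zero F p).resolve_right (CharP.char_ne_zero_of_finite F p)
  haveI : Fact p.Prime := ⟨hpp⟩
  have hp2 : p ≠ 2 := by
    rintro rfl
    obtain ⟨k, -, hk⟩ := FiniteField.card F 2
    rw [Nat.card_eq_fintype_card, hk] at hF
    exact (Nat.not_even_iff_odd.mpr hF) (Nat.even_pow.mpr ⟨even_two, k.pos.ne'⟩)
  haveI : Finite (cA n).Group := finite_W (cA n).toCoxeterSystem (isCartan n)
  exact ⟨Fin n, (cA n).Group, inferInstance, inferInstance, inferInstance, inferInstance, cA n,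
    (cA n).toCoxeterSystem, AA n, isCartan n, p, _, _, _, datum _ _ hp2⟩

/-- **`SL(n, q)`, `q` odd, has no perfect double cover.** -/
theorem noDouble_SL (hF : Odd (Nat.card F)) (n : ℕ) : NoDouble (SpecialLinearGroup (Fin (n + 1)) F) :=
  Main.noDouble (inst hF)

/-- The centre of `SL(n, q)`, `n` prime to `q - 1`. -/
theorem center_eq_bot {ι : Type*} [Fintype ι] [DecidableEq ι] (hc : (Fintype.card ι).Coprime (Nat.card Fˣ)) :
    Subgroup.center (SpecialLinearGroup ι F) = ⊥ := by
  rw [Subgroup.eq_bot_iff_forall]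
  intro x hx
  obtain ⟨r, hr, hx⟩ := Matrix.SpecialLinearGroup.mem_center_iff.1 hx
  rcases isEmpty_or_nonempty ι with he | he
  · exact Subsingleton.elim _ _
  have hr0 : r ≠ 0 := by
    rintro rfl
    rw [zero_pow (Fintype.card_ne_zero)] at hr
    exact zero_ne_one hr
  have h1 : Units.mk0 r hr0 = 1 := by
    have h2 : Units.mk0 r hr0 ^ Fintype.card ι = 1 := Units.ext (by simpa using hr)
    have h3 : Units.mk0 r hr0 ^ Nat.card Fˣ = 1 := pow_card_eq_one'
    have h4 : orderOf (Units.mk0 r hr0) ∣ 1 := by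
      rw [← hc]
      exact Nat.dvd_gcd (orderOf_dvd_of_pow_eq_one h2) (orderOf_dvd_of_pow_eq_one h3)
    exact orderOf_eq_one_iff.1 (Nat.dvd_one.1 h4)
  have h2 : r = 1 := by simpa using congrArg Units.val h1
  apply Subtype.ext
  rw [← hx, h2]
  simp

/-- `PSL(n, q)`, `q` odd, `n` prime to `q - 1`, has no perfect double cover. -/
theorem noDouble_PSL (hF : Odd (Nat.card F)) {n : ℕ} (hc : (n + 1).Coprime (Nat.card Fˣ)) :
    NoDouble (ProjectiveSpecialLinearGroup (Fin (n + 1)) F) := by
  have hcen := center_eq_bot (F := F) (ι := Fin (n + 1)) (by rwa [Fintype.card_fin])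
  refine (noDouble_SL hF n).congr (MulEquiv.ofBijective (pr n F) ⟨?_, pr_surjective⟩)
  rw [← MonoidHom.ker_eq_bot_iff, ker_pr, hcen]

/-- `L₃(3)` -/
theorem noDouble_L33 (hF : Nat.card F = 3) : NoDouble (ProjectiveSpecialLinearGroup (Fin 3) F) := by
  refine noDouble_PSL (n := 2) (by rw [hF]; decide) ?_
  haveI := Fintype.ofFinite F
  classical
  rw [Nat.card_eq_fintype_card, Fintype.card_units, ← Nat.card_eq_fintype_card, hF]
  decide

end Cfsg.Agent.KFacts.MulOdd.TypeA
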